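import Cfsg.Agent.Lib.Transfer.Residual

/-!
# Transfer of a central involution of a Sylow 2-subgroup

`exists_hom_ne_one`: if `z` is an involution in the centre of a Sylow 2-subgroup `S`, outside a normal
subgroup `U` of `S` with commutative quotient, and `N(S)` fixes `z`, then some homomorphism of `G`
to a 2-group does not kill `z`.
`pResidual_ne_top`: the same with the Frattini subgroup of `S` in place of `U`.
-/

set_option autoImplicit false

namespace Cfsg.Agent.TwoTransfer

open Subgroup MulAction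
open scoped Pointwise

variable {G : Type*} [Group G] [Finite G]

theorem mk_fixed_iff {S : Subgroup G} (z g : G) :
    z • (g : G ⧸ S) = (g : G ⧸ S) ↔ g⁻¹ * z * g ∈ S := by
  have h : z • (g : G ⧸ S) = ((z * g : G) : G ⧸ S) := rfl
  rw [h, QuotientGroup.eq]
  constructor
  · intro hh
    have := S.inv_mem hh
    simpa [mul_assoc] using this
  · intro hh
    have := S.inv_mem hh
    simpa [mul_assoc] using this

theorem prod_orbit_even {P : Type*} [Group P] [Finite P] {X A : Type*} [MulAction P X] [Fintype X]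
    [CommGroup A] (hP : IsPGroup 2 P) (f : X → A) (hf : ∀ (s : P) (x : X), f (s • x) = f x)
    (hf2 : ∀ x, f x ^ 2 = 1) [DecidablePred (· ∈ fixedPoints P X)] :
    ∏ x, f x = ∏ x ∈ Finset.univ.filter (· ∈ fixedPoints P X), f x := by
  classical
  rw [← Finset.prod_filter_mul_prod_filter_not Finset.univ (· ∈ fixedPoints P X) f, mul_eq_left,
    ← Finset.prod_fiberwise_of_maps_to (g := fun x => (⟦x⟧ : Quotient (orbitRel P X)))
      (t := Finset.univ) (fun x _ => Finset.mem_univ _)]
  refine Finset.prod_eq_one fun q _ => ?_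
  induction q using Quotient.inductionOn with
  | h a =>
    by_cases ha : a ∈ fixedPoints P X
    · rw [Finset.filter_false_of_mem, Finset.prod_empty]
      intro x hx hq
      obtain ⟨s, hs⟩ := Quotient.exact hq
      apply (Finset.mem_filter.mp hx).2
      rw [← hs]
      show s • a ∈ fixedPoints P X
      rw [ha s]; exact ha
    · have hset : ((Finset.univ.filter (fun x => x ∉ fixedPoints P X)).filter
          (fun x => (⟦x⟧ : Quotient (orbitRel P X)) = ⟦a⟧)) =
          Finset.univ.filter (fun x => x ∈ orbit P a) := by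
        ext x
        simp only [Finset.mem_filter, Finset.mem_univ, true_and]
        constructor
        · exact fun h => orbitRel_apply.mp (Quotient.exact h.2)
        · intro h
          refine ⟨fun hx => ha ?_, Quotient.sound (orbitRel_apply.mpr h)⟩
          obtain ⟨s, hs⟩ := h
          have : a = x := by
            calc a = s⁻¹ • x := by rw [← hs]; simp
              _ = x := hx s⁻¹
          exact this ▸ hx
      rw [hset, Finset.prod_congr rfl (g := fun _ => f a) (fun x hx => by
        obtain ⟨s, hs⟩ := (Finset.mem_filter.mp hx).2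
        rw [← hs]; exact hf s a), Finset.prod_const]
      obtain ⟨k, hk⟩ := hP.card_orbit a
      have hcard : (Finset.univ.filter (fun x => x ∈ orbit P a)).card = 2 ^ k := by
        rw [← hk, Nat.card_eq_fintype_card]
        exact (Fintype.card_of_subtype _ (fun x => by simp)).symm
      have hk0 : k ≠ 0 := by
        rintro rfl
        apply ha
        rw [mem_fixedPoints_iff_card_orbit_eq_one, ← Nat.card_eq_fintype_card]
        simpa using hk
      rw [hcard, ← Nat.succ_pred_eq_of_ne_zero hk0, pow_succ', pow_mul, hf2, one_pow]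

theorem prod_fixed_eq_transfer {A : Type*} [CommGroup A] {S : Subgroup G} (ψ : S →* A) (z : G)
    (hz : z ^ 2 = 1) [Fintype (G ⧸ S)] (f : G ⧸ S → A)
    (hf1 : ∀ x, ¬ z • x = x → f x = 1)
    (hf : ∀ (g : G) (h : g⁻¹ * z * g ∈ S), f (g : G ⧸ S) = ψ ⟨_, h⟩) :
    MonoidHom.transfer ψ z = ∏ x, f x := by
  classical
  haveI : Fintype (Quotient (orbitRel (zpowers z) (G ⧸ S))) := Fintype.ofFinite _
  rw [MonoidHom.transfer_eq_prod_quotient_orbitRel_zpowers_quot,
    ← Finset.prod_fiberwise_of_maps_to (s := Finset.univ)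
      (g := fun x => (⟦x⟧ : Quotient (orbitRel (zpowers z) (G ⧸ S)))) (t := Finset.univ)
      (fun x _ => Finset.mem_univ _) f]
  refine Finset.prod_congr rfl fun q _ => ?_
  have hfib : ∀ x : G ⧸ S, (⟦x⟧ : Quotient (orbitRel (zpowers z) (G ⧸ S))) = q →
      ∃ s ∈ zpowers z, s • q.out = x := by
    intro x hx
    rw [← q.out_eq] at hx
    obtain ⟨s, hs⟩ := Quotient.exact hx
    exact ⟨s, s.2, hs⟩
  have hd : Function.minimalPeriod (z • ·) q.out ∣ 2 := by
    rw [← MulAction.pow_smul_eq_iff_minimalPeriod_dvd, hz, one_smul]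
  rcases (Nat.dvd_prime Nat.prime_two).mp hd with h1 | h2
  · -- a fixed point
    have hfix : z • q.out = q.out := Function.minimalPeriod_eq_one_iff_isFixedPt.mp h1
    have hall : ∀ s ∈ zpowers z, s • q.out = q.out := fun s hs =>
      MulAction.mem_stabilizer_iff.mp (zpowers_le.mpr (MulAction.mem_stabilizer_iff.mpr hfix) hs)
    rw [Finset.prod_eq_single_of_mem q.out (by simp) (fun x hx hne => absurd (by
      obtain ⟨s, hs, hsx⟩ := hfib x (Finset.mem_filter.mp hx).2
      rw [← hsx, hall s hs]) hne)]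
    have hout : ((q.out.out : G) : G ⧸ S) = q.out := Quotient.out_eq q.out
    have hm : q.out.out⁻¹ * z * q.out.out ∈ S := (mk_fixed_iff z _).mp (by rw [hout]; exact hfix)
    have e := hf _ hm
    rw [hout] at e
    rw [e]
    congr 1
    apply Subtype.ext
    simp only [h1, pow_one]
  · have hnfix : ¬ z • q.out = q.out := fun h => by
      rw [Function.minimalPeriod_eq_one_iff_isFixedPt.mpr h] at h2
      exact absurd h2 (by norm_num)
    have hone : ∀ (h : q.out.out⁻¹ * z ^ Function.minimalPeriod (z • ·) q.out * q.out.out ∈ S),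
        ψ ⟨_, h⟩ = 1 := by
      rw [h2, hz, mul_one, inv_mul_cancel]
      exact fun h => map_one ψ
    rw [hone]
    refine (Finset.prod_eq_one fun x hx => hf1 x ?_).symm
    obtain ⟨s, hs, hsx⟩ := hfib x (Finset.mem_filter.mp hx).2
    obtain ⟨k, rfl⟩ := mem_zpowers_iff.mp hs
    intro hx'
    apply hnfix
    rw [← hsx, ← mul_smul, ← ((Commute.refl z).zpow_left k).eq, mul_smul] at hx'
    exact smul_left_cancel _ hx'

theorem exists_hom_ne_one {A : Type*} [CommGroup A] (S : Sylow 2 G) (ψ : (S : Subgroup G) →* A)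
    (z : (S : Subgroup G)) (hz2 : z ^ 2 = 1) (hzc : z ∈ center (S : Subgroup G)) (hψ : ψ z ≠ 1)
    (hN : ∀ g ∈ normalizer ((S : Subgroup G) : Set G), g * (z : G) * g⁻¹ = z) :
    MonoidHom.transfer ψ (z : G) ≠ 1 := by
  classical
  haveI : Fintype (G ⧸ (S : Subgroup G)) := Fintype.ofFinite _
  have hz : (z : G) ^ 2 = 1 := by rw [← SubmonoidClass.coe_pow, hz2]; rfl
  let f : G ⧸ (S : Subgroup G) → A := fun x =>
    if h : x.out⁻¹ * (z : G) * x.out ∈ (S : Subgroup G) then ψ ⟨_, h⟩ else 1
  have hf1 : ∀ x, ¬ (z : G) • x = x → f x = 1 := by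
    intro x hx
    apply dif_neg
    intro h
    exact hx (by simpa [QuotientGroup.out_eq'] using (mk_fixed_iff (z : G) x.out).mpr h)
  have hf : ∀ (g : G) (h : g⁻¹ * (z : G) * g ∈ (S : Subgroup G)), f (g : G ⧸ (S : Subgroup G)) = ψ ⟨_, h⟩ := by
    intro g h
    obtain ⟨u, hu⟩ := QuotientGroup.mk_out_eq_mul (S : Subgroup G) g
    have h' : (g * (u : G))⁻¹ * (z : G) * (g * (u : G)) ∈ (S : Subgroup G) := by
      have := (S : Subgroup G).mul_mem ((S : Subgroup G).mul_mem ((S : Subgroup G).inv_mem u.2) h) u.2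
      simpa [mul_assoc] using this
    have h'' : (g : G ⧸ (S : Subgroup G)).out⁻¹ * (z : G) * (g : G ⧸ (S : Subgroup G)).out ∈ (S : Subgroup G) := by rw [hu]; exact h'
    simp only [f]
    rw [dif_pos h'']
    have : (⟨_, h''⟩ : (S : Subgroup G)) = u⁻¹ * ⟨_, h⟩ * u := by
      apply Subtype.ext
      show (g : G ⧸ (S : Subgroup G)).out⁻¹ * (z : G) * (g : G ⧸ (S : Subgroup G)).out = (u : G)⁻¹ * (g⁻¹ * z * g) * u
      rw [hu]; group
    rw [this, map_mul, map_mul, map_inv, mul_comm, mul_inv_cancel_left]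
  have hf2 : ∀ x, f x ^ 2 = 1 := by
    intro x
    simp only [f]
    split_ifs with h
    · rw [← map_pow]
      convert map_one ψ
      apply Subtype.ext
      show (x.out⁻¹ * (z : G) * x.out) ^ 2 = 1
      calc (x.out⁻¹ * (z : G) * x.out) ^ 2 = x.out⁻¹ * (z : G) ^ 2 * x.out := by
            rw [pow_two, pow_two]; group
        _ = 1 := by rw [hz]; group
    · exact one_pow 2
  have hfinv : ∀ (s : (S : Subgroup G)) (x : G ⧸ (S : Subgroup G)), f (s • x) = f x := by
    intro s x
    induction x using QuotientGroup.induction_on with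
    | H g =>
      have hs : (s : G) * (z : G) = (z : G) * (s : G) :=
        congrArg Subtype.val (Subgroup.mem_center_iff.mp hzc s)
      have e : ((s : G) * g)⁻¹ * (z : G) * ((s : G) * g) = g⁻¹ * (z : G) * g := by
        calc ((s : G) * g)⁻¹ * (z : G) * ((s : G) * g) = g⁻¹ * (s : G)⁻¹ * ((z : G) * s) * g := by
              group
          _ = g⁻¹ * (s : G)⁻¹ * ((s : G) * z) * g := by rw [hs]
          _ = _ := by group
      show f (((s : G) * g : G) : G ⧸ (S : Subgroup G)) = f (g : G ⧸ (S : Subgroup G))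
      by_cases h : g⁻¹ * (z : G) * g ∈ (S : Subgroup G)
      · rw [hf g h, hf _ (e.symm ▸ h)]
        congr 1
        exact Subtype.ext e
      · rw [hf1 _ (fun hh => h ((mk_fixed_iff _ _).mp hh)),
          hf1 _ (fun hh => h (e ▸ (mk_fixed_iff _ _).mp hh))]
  rw [prod_fixed_eq_transfer ψ (z : G) hz f hf1 hf,
    prod_orbit_even (P := (S : Subgroup G)) S.isPGroup' f hfinv hf2,
    Finset.prod_congr rfl (g := fun _ => ψ z) (fun x hx => ?_), Finset.prod_const]
  · set c := (Finset.univ.filter (· ∈ fixedPoints (S : Subgroup G) (G ⧸ (S : Subgroup G)))).card with hc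
    have hodd : c % 2 = 1 := by
      have h1 := IsPGroup.card_modEq_card_fixedPoints (p := 2) S.isPGroup' (G ⧸ (S : Subgroup G))
      have h2 : Nat.card (fixedPoints (S : Subgroup G) (G ⧸ (S : Subgroup G))) = c := by
        rw [hc, Nat.card_eq_fintype_card]
        exact Fintype.card_of_subtype _ (fun x => by simp)
      have h3 : ¬ 2 ∣ Nat.card (G ⧸ (S : Subgroup G)) := S.not_dvd_index
      rw [h2] at h1
      have h4 : Nat.card (G ⧸ (S : Subgroup G)) % 2 = c % 2 := h1
      omega
    have hψ2 : ψ z ^ 2 = 1 := by rw [← map_pow, hz2, map_one]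
    rw [← Nat.div_add_mod c 2, pow_add, pow_mul, hψ2, one_pow, one_mul, hodd, pow_one]
    exact hψ
  · induction x using QuotientGroup.induction_on with
    | H g =>
      have hfix := (Finset.mem_filter.mp hx).2
      rw [Sylow.mem_fixedPoints_mul_left_cosets_iff_mem_normalizer] at hfix
      have h1 := hN g hfix
      have h2 : g⁻¹ * (z : G) * g = z := by
        conv_lhs => rw [← h1]
        group
      rw [hf g (h2.symm ▸ z.2)]
      congr 1
      exact Subtype.ext h2

/-- A central involution of `S` outside `Φ(S)` fixed by `N(S)` forces `O^2(G) ≠ G`. -/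
theorem pResidual_ne_top (S : Sylow 2 G) (z : (S : Subgroup G)) (hz2 : z ^ 2 = 1)
    (hzc : z ∈ center (S : Subgroup G)) (hzF : z ∉ frattini (S : Subgroup G))
    (hN : ∀ g ∈ normalizer ((S : Subgroup G) : Set G), g * (z : G) * g⁻¹ = z) :
    Cfsg.pResidual 2 G ≠ ⊤ := by
  obtain ⟨U, hU, hzU⟩ : ∃ U : Subgroup (S : Subgroup G), IsCoatom U ∧ z ∉ U := by
    by_contra h
    push Not at h
    apply hzF
    rw [frattini, Order.radical]
    exact Subgroup.mem_iInf.mpr fun U => Subgroup.mem_iInf.mpr fun hU => h U hU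
  haveI : Group.IsNilpotent (S : Subgroup G) := S.isPGroup'.isNilpotent
  haveI hUn : U.Normal := Subgroup.NormalizerCondition.normal_of_coatom U Group.normalizerCondition_of_isNilpotent hU
  set Q := (S : Subgroup G) ⧸ U with hQ
  haveI : IsSimpleGroup Q := by
    haveI : Nontrivial Q := by
      refine ⟨⟨QuotientGroup.mk z, 1, fun h => hzU ((QuotientGroup.eq_one_iff z).mp h)⟩⟩
    refine ⟨fun N _ => ?_⟩
    have hle : U ≤ N.comap (QuotientGroup.mk' U) := fun u hu => by
      rw [Subgroup.mem_comap, QuotientGroup.mk'_apply, (QuotientGroup.eq_one_iff u).mpr hu]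
      exact N.one_mem
    rcases hU.le_iff.mp hle with h | h
    · right
      exact Subgroup.comap_injective (QuotientGroup.mk'_surjective U) (h.trans (Subgroup.comap_top _).symm)
    · left
      refine (Subgroup.eq_bot_iff_forall _).mpr fun q hq => ?_
      obtain ⟨s, rfl⟩ := QuotientGroup.mk'_surjective U q
      exact (QuotientGroup.eq_one_iff s).mpr (h ▸ hq)
  have hQ2 : IsPGroup 2 Q := S.isPGroup'.to_quotient U
  haveI hcomm : IsMulCommutative Q := by
    haveI := hQ2.center_nontrivial
    have htop := (IsSimpleGroup.eq_bot_or_eq_top_of_normal (center Q) inferInstance).resolve_left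
      ((Subgroup.nontrivial_iff_ne_bot _).mp inferInstance)
    exact ⟨⟨fun a b => (Subgroup.mem_center_iff.mp (htop ▸ Subgroup.mem_top b) a)⟩⟩
  letI : CommGroup Q := { (inferInstance : Group Q) with mul_comm := fun a b => hcomm.is_comm.comm a b }
  intro htop
  have h1 := Cfsg.Agent.Transfer.pResidual_le_ker hQ2 (MonoidHom.transfer (QuotientGroup.mk' U))
  rw [htop] at h1
  exact exists_hom_ne_one S (QuotientGroup.mk' U) z hz2 hzc
    (fun h => hzU ((QuotientGroup.eq_one_iff z).mp h)) hN (MonoidHom.mem_ker.mp (h1 (Subgroup.mem_top _)))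

end Cfsg.Agent.TwoTransfer
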